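import Groth.Agent.HopfRep.Torsor
import Groth.Prelude.Def_CInt
import Groth.Prelude.Def_Red
import Mathlib.AlgebraicGeometry.Morphisms.Separated

/-!
Two morphisms into a scheme with separated fibres that agree on a relatively schematically dense open are equal.
-/

universe u

open CategoryTheory MonoidalCategory CartesianMonoidalCategory AlgebraicGeometry Limits

noncomputable section

namespace Groth.Agent.SchDense.HomExt

theorem dense {X : Scheme.{u}} {U : X.Opens} (h : CInt.IsSchematicallyDense U) : Dense (U : Set X) := by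
  rw [dense_iff_inter_open]
  intro V hV ⟨x, hx⟩
  by_contra hne
  let V' : X.Opens := ⟨V, hV⟩
  have : Nonempty V' := ⟨⟨x, hx⟩⟩
  have h0 : V' ⊓ U = ⊥ := TopologicalSpace.Opens.ext (Set.not_nonempty_iff_eq_empty.1 hne)
  have : Subsingleton Γ(X, V' ⊓ U) := by rw [h0]; infer_instance
  exact one_ne_zero (h V' (Subsingleton.elim (α := Γ(X, V' ⊓ U)) _ _) : (1 : Γ(X, V')) = 0)

theorem schDense_preimage {X X' : Scheme.{u}} (p : X' ⟶ X) [IsIso p] {U : X.Opens}
    (h : CInt.IsSchematicallyDense (p ⁻¹ᵁ U)) : CInt.IsSchematicallyDense U := by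
  intro V a b hab
  apply (ConcreteCategory.bijective_of_isIso (p.app V)).1
  apply h (p ⁻¹ᵁ V)
  have hn := p.naturality (homOfLE (inf_le_left : V ⊓ U ≤ V)).op
  have h1 := congrArg (fun φ => φ.hom a) hn
  have h2 := congrArg (fun φ => φ.hom b) hn
  exact h1.symm.trans ((congrArg (p.app (V ⊓ U)).hom hab).trans h2)

theorem hom_ext {S : Scheme.{u}} {X Y : Over S} (U : X.left.Opens)
    (hU : ∀ (S' : Scheme.{u}) (g : S' ⟶ S), CInt.IsSchematicallyDense ((pullback.fst X.hom g) ⁻¹ᵁ U))
    (hY : ∀ s : S, IsSeparated (pullback.snd Y.hom (S.fromSpecResidueField s)))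
    (f g : X ⟶ Y) (h : U.ι ≫ f.left = U.ι ≫ g.left) : f = g := by
  have hU₀ : CInt.IsSchematicallyDense U := schDense_preimage (pullback.fst X.hom (𝟙 S)) (hU S (𝟙 S))
  -- on points
  have hpt : ∀ x, f.left x = g.left x := by
    intro x
    let s := X.hom x
    let ρ := S.fromSpecResidueField s
    let F : pullback X.hom ρ ⟶ pullback Y.hom ρ :=
      pullback.map _ _ _ _ f.left (𝟙 _) (𝟙 _) (by simp [Over.w f]) (by simp)
    let G : pullback X.hom ρ ⟶ pullback Y.hom ρ :=
      pullback.map _ _ _ _ g.left (𝟙 _) (𝟙 _) (by simp [Over.w g]) (by simp)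
    have : IsSeparated (pullback.snd Y.hom ρ) := hY s
    have : (pullback Y.hom ρ).IsSeparated := ⟨(terminal.comp_from (pullback.snd Y.hom ρ)) ▸ inferInstance⟩
    let W := (pullback.fst X.hom ρ) ⁻¹ᵁ U
    have hW : W.ι ≫ F = W.ι ≫ G := by
      apply pullback.hom_ext
      · simp only [F, G, pullback.map, Category.assoc, pullback.lift_fst]
        have h9 := congrArg ((pullback.fst X.hom ρ ∣_ U) ≫ ·) h
        simp only [← Category.assoc, morphismRestrict_ι] at h9
        simpa only [Category.assoc] using h9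
      · simp only [F, G, pullback.map, Category.assoc]
        exact (congrArg (W.ι ≫ ·) (pullback.lift_snd _ _ _)).trans (congrArg (W.ι ≫ ·) (pullback.lift_snd _ _ _)).symm
    let e := equalizer.ι F G
    have hall : Set.range e = Set.univ := by
      refine Set.eq_univ_of_univ_subset ?_
      rw [← (dense (hU _ ρ)).closure_eq]
      refine closure_minimal ?_ e.isClosedEmbedding.isClosed_range
      intro z hz
      refine ⟨(equalizer.lift W.ι hW).base (⟨z, hz⟩ : W), ?_⟩
      exact (congrArg (fun φ : (W : Scheme.{u}) ⟶ _ => φ.base (⟨z, hz⟩ : W)) (equalizer.lift_ι W.ι hW)).trans rfl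
    obtain ⟨z, hz, -⟩ := Scheme.Pullback.exists_preimage_pullback (f := X.hom) (g := ρ) x
      (IsLocalRing.closedPoint _) (Scheme.fromSpecResidueField_apply s _).symm
    obtain ⟨w, hw⟩ := hall.ge (Set.mem_univ z)
    have h1 : F z = G z := by
      rw [← hw, ← Scheme.Hom.comp_apply, ← Scheme.Hom.comp_apply, equalizer.condition]
    have h2 := congrArg (pullback.fst Y.hom ρ) h1
    rw [← Scheme.Hom.comp_apply, ← Scheme.Hom.comp_apply] at h2
    simp only [F, G, pullback.lift_fst, Scheme.Hom.comp_apply] at h2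
    rwa [hz] at h2
  ext1
  refine Scheme.hom_ext_of_forall _ _ fun x => ?_
  obtain ⟨_, ⟨(W : Y.left.Opens), hW, rfl⟩, hxW, -⟩ :=
    Y.left.isBasis_affineOpens.exists_subset_of_mem_open (Set.mem_univ (f.left x)) isOpen_univ
  let V := f.left ⁻¹ᵁ W
  refine ⟨V, hxW, ?_⟩
  have hle : V ≤ g.left ⁻¹ᵁ W := fun z hz => (show g.left z ∈ W from (hpt z) ▸ hz)
  have : IsAffine (W : Scheme.{u}) := hW
  suffices f.left.resLE W V le_rfl = g.left.resLE W V hle by
    rw [← Scheme.Hom.resLE_comp_ι f.left (e := le_rfl), ← Scheme.Hom.resLE_comp_ι g.left (e := hle), this]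
  refine ext_of_isAffine ?_
  let A := V ⊓ U
  have h3 : X.left.homOfLE (inf_le_left : A ≤ V) ≫ f.left.resLE W V le_rfl =
      X.left.homOfLE (inf_le_left : A ≤ V) ≫ g.left.resLE W V hle := by
    rw [← cancel_mono W.ι]
    simp only [Category.assoc, Scheme.Hom.resLE_comp_ι]
    rw [Scheme.homOfLE_ι_assoc, Scheme.homOfLE_ι_assoc, ← Scheme.homOfLE_ι X.left (inf_le_right : A ≤ U),
      Category.assoc, Category.assoc, h]
  have hinj : Function.Injective (X.left.homOfLE (inf_le_left : A ≤ V)).appTop.hom := by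
    intro a b hab
    apply (ConcreteCategory.bijective_of_isIso V.topIso.hom).1
    apply hU₀ V
    have hsq : (X.left.homOfLE (inf_le_left : A ≤ V)).appTop ≫ A.topIso.hom =
        V.topIso.hom ≫ X.left.presheaf.map (homOfLE (inf_le_left : A ≤ V)).op := by
      rw [Scheme.homOfLE_appTop, Scheme.Opens.topIso_hom, Scheme.Opens.topIso_hom]
      exact ((X.left.presheaf.map_comp _ _).symm.trans (congrArg X.left.presheaf.map (Subsingleton.elim _ _))).trans
        (X.left.presheaf.map_comp _ _)
    have h1 := congrArg (fun φ => φ.hom a) hsq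
    have h2 := congrArg (fun φ => φ.hom b) hsq
    exact h1.symm.trans ((congrArg A.topIso.hom.hom hab).trans h2)
  ext a
  apply hinj
  exact congrArg (fun φ => φ.appTop.hom a) h3

theorem isSeparated_fibre {S : Scheme.{u}} (H : Over S) [GrpObj H] (s : S) :
    IsSeparated (pullback.snd H.hom (S.fromSpecResidueField s)) :=
  HopfRep.Torsor.isSeparated (K := S.residueField s) (Red.bc (S.fromSpecResidueField s) H)

end Groth.Agent.SchDense.HomExt

end
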